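import Groth.Agent.Lib.AbDual21.Square

/-!
Pullbacks of a Poincaré class along multiplication maps.
-/

universe u

open CategoryTheory CategoryTheory.Limits MonoidalCategory CartesianMonoidalCategory AlgebraicGeometry

open scoped MonObj GrpObj

set_option backward.isDefEq.respectTransparency false

noncomputable section

namespace Groth.Agent.KernelKL22

open Groth.Agent.AbDual21 Groth.Agent.PicDesc21

variable {S : Scheme.{u}} {A At : Over S} [GrpObj A] [GrpObj At]
  {φ : ∀ T : Over S, PicF.Cl (PicF.XT A.hom T) → (T ⟶ At)}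

theorem isTrivialCl_secT_iff {T : Over S} (c : PicF.Cl (PicF.XT A.hom T)) :
    PicF.IsTrivialCl (PicF.pullCl (PicF.secT A.hom η[A].left (Over.w η[A]) T) c) ↔ PicF.IsTrivialCl (unitCl c) := by
  rw [secT_eq, unitCl, Hom.one_def]

/-- classes with the same rigidification and the same point of the dual are equal -/
theorem eq_of_phi [IsProper A.hom] [Flat A.hom] [LocallyOfFinitePresentation A.hom] [GeometricallyConnected A.hom]
    [GeometricallyReduced A.hom] (hφ : AbDual.IsDualAV Scheme.fppfPrecoverage A At φ) {T : Over S}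
    {c d : PicF.Cl (PicF.XT A.hom T)} (hc : AbDual.IsPicZeroCl A.hom T c) (hd : AbDual.IsPicZeroCl A.hom T d)
    (h : φ T c = φ T d) (hu : unitCl c = unitCl d) : c = d := by
  obtain ⟨R, hR, hR'⟩ := hφ.relPic.locallyInjective _ _ _ hc hd h
  refine cl_eq_of_local A.hom (fun U τ => bijective_appTop (pullback.snd A.hom τ)) η[A].left (Over.w η[A])
    (picZero_invertible hc) (picZero_invertible hd) ?_ hR hR'
  rw [secT_eq]
  simpa only [unitCl, Hom.one_def] using hu

variable [IsProper A.hom] [Smooth A.hom] [GeometricallyConnected A.hom] [IsSeparated At.hom]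
  (hφ : AbDual.IsDualAV Scheme.fppfPrecoverage A At φ) {P : (PicF.XT A.hom At).Modules}
  (hξ : AbDual.IsPoincareCl A At φ (PicF.cl P))

include hφ hξ

theorem unitCl_poincare : unitCl (PicF.cl P) = PicF.cl (Coh.structureModule At.left) :=
  (isTrivialCl_secT_iff _).1 hξ.2.2

theorem bcMap_pow (n : ℕ) :
    PicF.pullCl ((𝟙 A ^ n) ▷ At).left (PicF.cl P) = PicF.cl (CohB1.tensorPow P n) := by
  induction n with
  | zero =>
    rw [pow_zero, whiskerRight_one, Over.comp_left, ← pullCl_pullCl, ← unitCl, unitCl_poincare hφ hξ,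
      pullCl_structure]
    rfl
  | succ n ih =>
    have h := square hφ hξ.1 (𝟙 A ^ n) (𝟙 A)
    rw [unitCl_poincare hφ hξ, pullCl_structure, ih] at h
    rw [pow_succ, ← mulCl_one (PicF.pullCl _ _)]
    refine h.trans ?_
    rw [show (𝟙 A ▷ At : A ⊗ At ⟶ A ⊗ At) = 𝟙 _ from id_whiskerRight A At, Over.id_left, PicLoc.pullCl_id]
    exact PicGrp.mulCl_cl _ _

theorem bcMap_inv :
    PicGrp.mulCl (PicF.pullCl ((𝟙 A)⁻¹ ▷ At).left (PicF.cl P)) (PicF.cl P) = PicF.cl (Coh.structureModule _) := by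
  have h := square hφ hξ.1 (𝟙 A)⁻¹ (𝟙 A)
  rw [unitCl_poincare hφ hξ, pullCl_structure, inv_mul_cancel, whiskerRight_one, Over.comp_left,
    ← pullCl_pullCl, ← unitCl, unitCl_poincare hφ hξ, pullCl_structure, mulCl_one,
    show (𝟙 A ▷ At : A ⊗ At ⟶ A ⊗ At) = 𝟙 _ from id_whiskerRight A At, Over.id_left, PicLoc.pullCl_id] at h
  exact h.symm

theorem picZero_tensorPow (n : ℕ) : AbDual.IsPicZeroCl A.hom At (PicF.cl (CohB1.tensorPow P n)) := by
  rw [← bcMap_pow hφ hξ n]
  exact picZero_whiskerRight _ hξ.1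

theorem phi_tensorPow : ∀ n : ℕ, φ At (PicF.cl (CohB1.tensorPow P n)) = 𝟙 At ^ n
  | 0 => by rw [pow_zero]; exact phi_one hφ At
  | n + 1 => by
    rw [pow_succ, ← phi_tensorPow n]
    conv_rhs => rw [← hξ.2.1, ← phi_mul hφ (picZero_tensorPow hφ hξ n) hξ.1]
    rfl

theorem unitCl_whisker (x : At ⟶ At) :
    unitCl (PicF.pullCl (A ◁ x).left (PicF.cl P)) = PicF.cl (Coh.structureModule At.left) := by
  rw [unitCl, pullCl_pullCl, ← Over.comp_left,
    show lift (1 : At ⟶ A) (𝟙 At) ≫ (A ◁ x) = x ≫ lift (1 : At ⟶ A) (𝟙 At) by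
      apply CartesianMonoidalCategory.hom_ext <;> simp,
    Over.comp_left, ← pullCl_pullCl, ← unitCl, unitCl_poincare hφ hξ, pullCl_structure]

variable [Flat A.hom] [LocallyOfFinitePresentation A.hom] [GeometricallyReduced A.hom]

theorem xtMap_pow (n : ℕ) :
    PicF.pullCl (A ◁ (𝟙 At ^ n)).left (PicF.cl P) = PicF.cl (CohB1.tensorPow P n) := by
  refine eq_of_phi hφ (picZero_whisker _ hξ.1) (picZero_tensorPow hφ hξ n) ?_ ?_
  · rw [phi_natural hφ _ hξ.1, phi_tensorPow hφ hξ, hξ.2.1]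
    exact Category.comp_id _
  · rw [unitCl_whisker hφ hξ, ← bcMap_pow hφ hξ n, unitCl, pullCl_pullCl, ← Over.comp_left,
      show lift (1 : At ⟶ A) (𝟙 At) ≫ ((𝟙 A ^ n) ▷ At) = lift (1 : At ⟶ A) (𝟙 At) by
        apply CartesianMonoidalCategory.hom_ext <;> simp [MonObj.comp_pow],
      ← unitCl, unitCl_poincare hφ hξ]

theorem xtMap_inv :
    PicGrp.mulCl (PicF.pullCl (A ◁ (𝟙 At)⁻¹).left (PicF.cl P)) (PicF.cl P) = PicF.cl (Coh.structureModule _) := by
  have e : PicF.pullCl (A ◁ (𝟙 At)⁻¹).left (PicF.cl P) = PicF.pullCl ((𝟙 A)⁻¹ ▷ At).left (PicF.cl P) := by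
    refine eq_of_phi hφ (picZero_whisker _ hξ.1) (picZero_whiskerRight _ hξ.1) ?_ ?_
    · rw [phi_natural hφ _ hξ.1, hξ.2.1]
      refine (Category.comp_id _).trans (inv_eq_of_mul_eq_one_left ?_)
      conv_lhs => arg 2; rw [← hξ.2.1]
      rw [← phi_mul hφ (picZero_whiskerRight _ hξ.1) hξ.1, bcMap_inv hφ hξ]
      exact phi_one hφ At
    · rw [unitCl_whisker hφ hξ, unitCl, pullCl_pullCl, ← Over.comp_left,
        show lift (1 : At ⟶ A) (𝟙 At) ≫ ((𝟙 A)⁻¹ ▷ At) = lift (1 : At ⟶ A) (𝟙 At) by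
          apply CartesianMonoidalCategory.hom_ext <;> simp [GrpObj.comp_inv],
        ← unitCl, unitCl_poincare hφ hξ]
  rw [e]
  exact bcMap_inv hφ hξ

end Groth.Agent.KernelKL22

end
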