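import Groth.Agent.Lib.CubeField.MumfordTriv
import Groth.Agent.Lib.AbDual21.Phi
import Groth.Prelude.Def_AgPol
import Groth.Prelude.Def_AlgGrp

/-!
The kernel of the homomorphism attached to an invertible module is the maximal locus over which its
Mumford bundle is trivial.
-/

universe u

open CategoryTheory CategoryTheory.Limits MonoidalCategory CartesianMonoidalCategory AlgebraicGeometry

open scoped MonObj GrpObj

set_option backward.isDefEq.respectTransparency false

noncomputable section

namespace Groth.Agent.KernelKL22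

open Groth.Agent.CubeField Groth.Agent.AbDual21 Groth.Agent.PicDesc21

noncomputable local instance instLawKernelKL (Y : Scheme.{u}) : PicGrp.Law Y := M2.law Y

variable {k : Type u} [Field k] {A : Over (Spec (CommRingCat.of k))} [GrpObj A]
  {L : A.left.Modules} {hL : PicF.IsInvertible L}
  {N : (PicF.XT A.hom A).Modules} {hN : PicF.IsInvertible N}

/-- the class of the Mumford bundle along `z` -/
abbrev mum (N : (PicF.XT A.hom A).Modules) {V : Over (Spec (CommRingCat.of k))} (z : V ⟶ A) :
    PicF.Cl (PicF.XT A.hom V) :=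
  PicF.pullCl (A ◁ z).left (PicF.cl N)

theorem mum_mul (hs : AgPol.IsLambdaSheaf (μ[A].left : PicF.XT A.hom A ⟶ A.left) (fst A A).left (snd A A).left L N)
    {V : Over (Spec (CommRingCat.of k))} (z : V ⟶ A) :
    PicGrp.pullHom (A ◁ z).left (M2.pullMul _) (PicGrp.cls N hN) * P L hL (fst A V) * P L hL (snd A V ≫ z) =
      P L hL (fst A V * (snd A V ≫ z)) := by
  obtain ⟨e⟩ := hs
  have h : (PicGrp.cls N hN : PicLoc.PicSet (A ⊗ A).left) * P L hL (fst A A) * P L hL (snd A A) = P L hL μ[A] := by
    apply Subtype.ext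
    simp only [P, PicGrp.mul_val, PicGrp.cls_val, PicGrp.mulCl_cl]
    exact M2.cl_eq_of_iso e
  have h1 := congrArg (PicGrp.pullHom (A ◁ z).left (M2.pullMul _)) h
  simp only [map_mul, pullHom_P, whiskerLeft_fst, whiskerLeft_snd, whisker_mul] at h1
  exact h1

theorem isMumfordTriv_iff_mum (hL : PicF.IsInvertible L) (hN : PicF.IsInvertible N)
    (hs : AgPol.IsLambdaSheaf (μ[A].left : PicF.XT A.hom A ⟶ A.left) (fst A A).left (snd A A).left L N)
    {V : Over (Spec (CommRingCat.of k))} (z : V ⟶ A) :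
    ThetaGrp.IsMumfordTriv A L z ↔ PicF.IsTrivialCl (mum N z) := by
  have h := mum_mul (hL := hL) (hN := hN) hs z
  have e : PicGrp.pullHom (A ◁ z).left (M2.pullMul _) (PicGrp.cls N hN) = 1 ↔ PicF.IsTrivialCl (mum N z) :=
    Iff.trans Subtype.ext_iff Iff.rfl
  rw [isMumfordTriv_iff hL z, ← h, ← e, mul_assoc, mul_eq_right]

variable [IsProper A.hom] [GeometricallyIntegral A.hom]

theorem picZero_mum (hL : PicF.IsInvertible L) (hN : PicF.IsInvertible N)
    (hs : AgPol.IsLambdaSheaf (μ[A].left : PicF.XT A.hom A ⟶ A.left) (fst A A).left (snd A A).left L N) :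
    AbDual.IsPicZeroCl A.hom A (PicF.cl N) := by
  rw [isPicZeroCl_iff]
  refine ⟨⟨N, rfl, hN⟩, fun Ω _ _ σ => ?_⟩
  let p : Spec (CommRingCat.of Ω) ⟶ Spec (CommRingCat.of k) := σ ≫ A.hom
  let T' : Over (Spec (CommRingCat.of k)) := A ⊗ Over.mk p
  let q : T'.left ⟶ Spec (CommRingCat.of Ω) := (snd A (Over.mk p)).left
  have : ConnectedSpace T'.left := by
    have : IsIntegral (pullback A.hom p) := inferInstance
    exact inferInstanceAs (ConnectedSpace ↥(pullback A.hom p))
  have : LocallyOfFiniteType q := inferInstanceAs (LocallyOfFiniteType (pullback.snd A.hom p))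
  have : QuasiCompact q := inferInstanceAs (QuasiCompact (pullback.snd A.hom p))
  let t₀ : Over.mk p ⟶ T' := lift (1 : Over.mk p ⟶ A) (𝟙 _)
  have ht₀ : t₀.left ≫ q = 𝟙 _ := congrArg CommaMorphism.left (lift_snd (1 : Over.mk p ⟶ A) (𝟙 _))
  have h0 : PicF.IsTrivialCl (PicF.pullCl (PicF.XTmap A.hom (AbDual.ovrHom T' t₀.left))
      (mum N (fst A (Over.mk p)))) := by
    have e1 : AbDual.ovrHom T' t₀.left ≫ fst A (Over.mk p) = 1 := by
      have e : AbDual.ovr T' t₀.left = Over.mk p := by
        simp only [AbDual.ovr, Over.w t₀]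
        rfl
      apply Over.OverMorphism.ext
      change t₀.left ≫ (fst A (Over.mk p)).left = _
      rw [← Over.comp_left, lift_fst]
      change _ = (toUnit (AbDual.ovr T' t₀.left) ≫ η[A]).left
      change (toUnit (Over.mk p) ≫ η[A]).left = _
      simp only [Over.comp_left, Over.toUnit_left, Over.w t₀, AbDual.ovr]
      congr 1
      exact (Over.w t₀).symm
    rw [mum, XTmap_eq, pullCl_pullCl, ← Over.comp_left, ← whiskerLeft_comp, e1]
    refine (isMumfordTriv_iff_mum hL hN hs _).1 ((isMumfordTriv_iff hL _).2 ?_)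
    simp only [MonObj.comp_one, _root_.mul_one, P_one]
  have hz := picZero_of_family (f := A.hom) q (σ := p)
    (congrArg (fun g => g) (Over.w (snd A (Over.mk p)))) t₀.left ht₀
    (isInvertibleCl_pull _ ⟨N, rfl, hN⟩) h0
  obtain ⟨-, hz⟩ := isPicZeroCl_iff.1 hz
  let s : Spec (CommRingCat.of Ω) ⟶ T'.left := pullback.lift σ (𝟙 _) (Category.id_comp _).symm
  have hs1 : s ≫ (fst A (Over.mk p)).left = σ := pullback.lift_fst _ _ _
  let kk : pullback (PicF.XTproj A.hom A) σ ⟶ pullback (PicF.XTproj A.hom T') s :=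
    pullback.lift (pullback.lift (pullback.fst _ _ ≫ pullback.fst A.hom A.hom) (pullback.snd _ _ ≫ s) (by
      have e : s ≫ T'.hom = σ ≫ A.hom := by
        rw [← Over.w (fst A (Over.mk p)), ← Category.assoc, hs1]
      simp [e, pullback.condition, pullback.condition_assoc])) (pullback.snd _ _) (pullback.lift_snd _ _ _)
  have h1 := algZ_pull kk (pullback.lift_snd _ _ _) (hz Ω s)
  have e2 : kk ≫ pullback.fst (PicF.XTproj A.hom T') s ≫ (A ◁ fst A (Over.mk p)).left = pullback.fst _ _ := by
    rw [pullback.lift_fst_assoc, ← XTmap_eq]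
    apply pullback.hom_ext
    · simp [PicF.XTmap]
      apply pullback.lift_fst
    · simp [PicF.XTmap, pullback.condition]
      refine (pullback.lift_snd_assoc (f := A.hom) _ _ _ _).trans ?_
      exact (Category.assoc _ _ _).trans (congrArg _ hs1)
  rw [pullCl_pullCl, pullCl_pullCl] at h1
  rw [Category.assoc, e2] at h1
  exact h1

theorem isKernel_KL {At : Over (Spec (CommRingCat.of k))} [GrpObj At]
    {φ : ∀ T : Over (Spec (CommRingCat.of k)), PicF.Cl (PicF.XT A.hom T) → (T ⟶ At)}
    (hφ : AbDual.IsDualAV Scheme.fppfPrecoverage A At φ) (hL : PicF.IsInvertible L) {lam : A ⟶ At}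
    (hlam : AgPol.IsLambda A At φ L lam) {K : Over (Spec (CommRingCat.of k))} {i : K ⟶ A}
    (hK : ThetaGrp.IsKL A L i) : AlgGrp.IsKernel i lam := by
  obtain ⟨N, hN, hs, rfl⟩ := hlam
  have hc := picZero_mum hL hN hs
  have hx : ∀ {T : Over (Spec (CommRingCat.of k))} (x : T ⟶ A), φ T (mum N x) = x ≫ φ A (PicF.cl N) :=
    fun x => phi_natural hφ x hc
  have : IsClosedImmersion i.left := hK.closed
  have : Mono i := (Over.forget _).mono_of_mono_map (show Mono i.left from inferInstance)
  have key : ∀ {T : Over (Spec (CommRingCat.of k))} (x : T ⟶ A),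
      x ≫ φ A (PicF.cl N) = 1 ↔ ∃ y, y ≫ i = x := by
    intro T x
    rw [← hx x]
    constructor
    · intro h
      obtain ⟨R, hR, hRe⟩ := hφ.relPic.locallyInjective T (mum N x) (triv A T) (picZero_whisker x hc)
        (picZero_one T) (h.trans (phi_one hφ T).symm)
      have hloc : ∀ ⦃U : Scheme.{u}⦄ (u : U ⟶ T.left), R u → ∃ y : U ⟶ K.left, y ≫ i.left = u ≫ x.left := by
        intro U u hu
        have hu' := hRe u hu
        rw [pullCl_structure, XTmap_eq, mum, pullCl_pullCl, ← Over.comp_left, ← whiskerLeft_comp] at hu'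
        obtain ⟨y, hy⟩ := (hK.univ _ _).1 ((isMumfordTriv_iff_mum hL hN hs _).2 hu')
        exact ⟨y.left, congrArg CommaMorphism.left hy⟩
      choose y hy using hloc
      have hsh : (Presieve.ofArrows (fun k : Σ Y, {g : Y ⟶ T.left // R g} => k.1)
          (fun k => k.2.1)).IsSheafFor (yoneda.obj K.left) :=
        (Presieve.isSheafFor_iff_generate _).2
          ((GrothendieckTopology.Subcanonical.isSheaf_of_isRepresentable (J := Scheme.fppfTopology) _) _
            (Precoverage.generate_mem_toGrothendieck (mem_fppf_presieve hR)))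
      obtain ⟨t, ht, -⟩ := (Presieve.isSheafFor_arrows_iff _ _).1 hsh (fun j => y j.2.1 j.2.2) (by
        intro j l Z gj gl e
        change gj ≫ y j.2.1 j.2.2 = gl ≫ y l.2.1 l.2.2
        rw [← cancel_mono i.left, Category.assoc, Category.assoc, hy, hy, reassoc_of% e])
      have hti : t ≫ i.left = x.left := by
        have hsh' : (Presieve.ofArrows (fun k : Σ Y, {g : Y ⟶ T.left // R g} => k.1)
            (fun k => k.2.1)).IsSheafFor (yoneda.obj A.left) :=
          (Presieve.isSheafFor_iff_generate _).2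
            ((GrothendieckTopology.Subcanonical.isSheaf_of_isRepresentable (J := Scheme.fppfTopology) _) _
              (Precoverage.generate_mem_toGrothendieck (mem_fppf_presieve hR)))
        refine hsh'.isSeparatedFor.ext ?_
        rintro Z g ⟨j⟩
        change j.2.1 ≫ t ≫ i.left = j.2.1 ≫ x.left
        rw [← Category.assoc, show j.2.1 ≫ t = y j.2.1 j.2.2 from ht j, hy]
      exact ⟨Over.homMk t (by rw [← Over.w i, ← Category.assoc, hti, Over.w x]), Over.OverMorphism.ext hti⟩
    · rintro ⟨y, rfl⟩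
      have h := (isMumfordTriv_iff_mum hL hN hs _).1 ((hK.univ _ _).2 ⟨y, rfl⟩)
      rw [h]
      exact phi_one hφ _
  have hi : i ≫ φ A (PicF.cl N) = toUnit K ≫ η[At] := (key i).2 ⟨𝟙 _, Category.id_comp _⟩
  have hl : ∀ s : PullbackCone (φ A (PicF.cl N)) η[At], ∃ y, y ≫ i = s.fst := fun s => (key s.fst).1 (by
    rw [s.condition, toUnit_unique s.snd (toUnit s.pt)]
    rfl)
  refine IsPullback.of_isLimit' ⟨hi⟩ (PullbackCone.IsLimit.mk hi (fun s => (hl s).choose)
    (fun s => (hl s).choose_spec) (fun s => toUnit_unique _ _) (fun s m h _ => ?_))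
  exact (cancel_mono i).1 (h.trans (hl s).choose_spec.symm)

end Groth.Agent.KernelKL22

end
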