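import Groth.Agent.Lib.KernelKL22.Basic
import Groth.Agent.Lib.FrobPull22.Basic

/-!
Composition of the homomorphism attached to an invertible module with an endomorphism pulling it back
to its `q`-th power, and with the transpose of that endomorphism.
-/

universe u

open CategoryTheory CategoryTheory.Limits MonoidalCategory CartesianMonoidalCategory AlgebraicGeometry

open scoped MonObj GrpObj

set_option backward.isDefEq.respectTransparency false

noncomputable section

namespace Groth.Agent.KernelKL22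

open Groth.Agent.CubeField Groth.Agent.AbDual21 Groth.Agent.PicDesc21

noncomputable local instance instLawKernelFrob (Y : Scheme.{u}) : PicGrp.Law Y := M2.law Y

variable {k : Type u} [Field k] {A At : Over (Spec (CommRingCat.of k))} [GrpObj A] [GrpObj At]
  [IsProper A.hom] [GeometricallyIntegral A.hom] {L : A.left.Modules}
  {φ : ∀ T : Over (Spec (CommRingCat.of k)), PicF.Cl (PicF.XT A.hom T) → (T ⟶ At)}

theorem mumford_eq (hL : PicF.IsInvertible L) {N : (PicF.XT A.hom A).Modules} (hN : PicF.IsInvertible N)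
    (hs : AgPol.IsLambdaSheaf (μ[A].left : PicF.XT A.hom A ⟶ A.left) (fst A A).left (snd A A).left L N) :
    (PicGrp.cls N hN : PicLoc.PicSet (A ⊗ A).left) * P L hL (fst A A) * P L hL (snd A A) = P L hL μ[A] := by
  apply Subtype.ext
  simp only [P, PicGrp.mul_val, PicGrp.cls_val, PicGrp.mulCl_cl]
  exact M2.cl_eq_of_iso hs.some

theorem picZero_pow (hL : PicF.IsInvertible L) {N : (PicF.XT A.hom A).Modules} (hN : PicF.IsInvertible N)
    (hs : AgPol.IsLambdaSheaf (μ[A].left : PicF.XT A.hom A ⟶ A.left) (fst A A).left (snd A A).left L N) (j : ℕ) :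
    AbDual.IsPicZeroCl A.hom A (PicGrp.cls N hN ^ j).1 := by
  obtain ⟨L', eL, hL'⟩ := (PicGrp.cls L hL ^ j).2
  obtain ⟨N', eN, hN'⟩ := (PicGrp.cls N hN ^ j).2
  have hclL : PicGrp.cls L' hL' = PicGrp.cls L hL ^ j := Subtype.ext eL
  have hclN : PicGrp.cls N' hN' = PicGrp.cls N hN ^ j := Subtype.ext eN
  have hP : ∀ f : A ⊗ A ⟶ A, P L' hL' f = P L hL f ^ j := fun f => by
    rw [← Category.comp_id f, ← pullHom_P, ← pullHom_P f (𝟙 A) (L := L), P_id, P_id, hclL, map_pow]
  rw [← eN]
  refine picZero_mum hL' hN' ((PicGrp.cl_eq_cl_iff _ _).1 ?_)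
  have h : (PicGrp.cls N' hN' : PicLoc.PicSet (A ⊗ A).left) * P L' hL' (fst A A) * P L' hL' (snd A A) =
      P L' hL' μ[A] := by
    rw [hclN, hP, hP, hP, ← _root_.mul_pow, ← _root_.mul_pow, mumford_eq hL hN hs]
  replace h := congrArg Subtype.val h
  simp only [P, PicGrp.mul_val, PicGrp.cls_val, PicGrp.mulCl_cl] at h
  exact h

theorem phi_pow (hφ : AbDual.IsDualAV Scheme.fppfPrecoverage A At φ) (hL : PicF.IsInvertible L)
    {N : (PicF.XT A.hom A).Modules} (hN : PicF.IsInvertible N)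
    (hs : AgPol.IsLambdaSheaf (μ[A].left : PicF.XT A.hom A ⟶ A.left) (fst A A).left (snd A A).left L N) :
    ∀ j : ℕ, φ A (PicGrp.cls N hN ^ j).1 = φ A (PicF.cl N) ^ j
  | 0 => by
    rw [pow_zero, pow_zero]
    exact phi_one hφ A
  | j + 1 => by
    have h1 : AbDual.IsPicZeroCl A.hom A (PicF.cl N) := picZero_mum hL hN hs
    rw [pow_succ, pow_succ, ← phi_pow hφ hL hN hs j, PicGrp.mul_val, PicGrp.cls_val,
      phi_mul hφ (picZero_pow hL hN hs j) h1]

theorem comp_lambda_comp_transpose (hφ : AbDual.IsDualAV Scheme.fppfPrecoverage A At φ) (π : A ⟶ A) [IsMonHom π]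
    {πt : At ⟶ At} (hπt : AbDual.IsTranspose π φ φ πt) (hL : PicF.IsInvertible L) {q : ℕ}
    (h : Nonempty ((Scheme.Modules.pullback π.left).obj L ≅ CohB1.tensorPow L q))
    {lam : A ⟶ At} (hlam : AgPol.IsLambda A At φ L lam) :
    π ≫ lam ≫ πt = lam ^ q := by
  obtain ⟨N, hN, hs, rfl⟩ := hlam
  have hc := picZero_mum hL hN hs
  have hc' : AbDual.IsPicZeroCl A.hom A (PicF.pullCl (AbDual.bcMap π A) (PicF.cl N)) :=
    picZero_pull hc _ (𝟙 _) (by
      rw [Category.comp_id, AbDual.bcMap]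
      exact (pullback.lift_snd _ _ _).trans (Category.comp_id _))
  rw [← hπt A _ hc, ← phi_natural hφ π hc', ← phi_pow hφ hL hN hs q]
  refine congrArg (φ A) ?_
  have hφL : P L hL π = P L hL (𝟙 A) ^ q := by
    rw [P_id]
    refine Subtype.ext ?_
    rw [PicGrp.cls_pow_val]
    exact M2.cl_eq_of_iso h.some
  have hP : ∀ z : A ⊗ A ⟶ A, P L hL (z ≫ π) = P L hL z ^ q := fun z => by
    rw [← pullHom_P, hφL, map_pow, pullHom_P, Category.comp_id]
  have h1 := congrArg (fun x => PicGrp.pullHom (A ◁ π).left (M2.pullMul _)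
    (PicGrp.pullHom (π ▷ A).left (M2.pullMul _) x)) (mumford_eq hL hN hs)
  simp only [map_mul, pullHom_P, whiskerRight_fst, whiskerLeft_fst_assoc, whiskerRight_snd, whiskerLeft_snd,
    map_pow, hP] at h1
  have hm : (A ◁ π) ≫ (π ▷ A) ≫ μ[A] = μ[A] ≫ π := by
    rw [← Category.assoc, whisker_exchange, ← tensorHom_def]
    exact (IsMonHom.mul_hom π).symm
  rw [hm, hP, ← mumford_eq hL hN hs, _root_.mul_pow, _root_.mul_pow, mul_left_inj, whiskerLeft_fst,
    mul_left_inj] at h1
  rw [← h1, PicGrp.pullHom_apply_val, PicGrp.pullHom_apply_val, PicGrp.cls_val, bcMap_eq]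

end Groth.Agent.KernelKL22

end
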